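import Mathlib
import Groth.Prelude.Def_Flat
import Groth.Agent.Lib.Helper4.DimFT1
import Groth.Agent.Lib.Helper4.DimFT2
import Groth.Agent.Lib.Helper4.Chev2
import Groth.Agent.Lib.Helper2.Sch.ProdLocalDim

set_option linter.style.haveILetI false
set_option linter.unusedVariables false
set_option linter.unusedSectionVars false
set_option autoImplicit false
set_option backward.isDefEq.respectTransparency.types false
set_option synthInstance.maxHeartbeats 400000

universe u

/-! helper7: Dimension of primes in a tensor product of finite type domains over a field (helper7) -/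
open CategoryTheory CategoryTheory.Limits AlgebraicGeometry TensorProduct

namespace Groth.Agent.Helper7.AffInt

theorem locallyOfFiniteType_SpecMap (k A : Type u) [Field k] [CommRing A] [Algebra k A]
    [Algebra.FiniteType k A] :
    LocallyOfFiniteType (Spec.map (CommRingCat.ofHom (algebraMap k A))) := by
  rw [HasRingHomProperty.Spec_iff (P := @LocallyOfFiniteType)]
  exact (RingHom.finiteType_algebraMap (A := k) (B := A)).mpr inferInstance

theorem localDim_spec_domain (k A : Type u) [Field k] [CommRing A] [IsDomain A] [Algebra k A]
    [Algebra.FiniteType k A] (x : PrimeSpectrum A) :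
    FlatMor.localDim (PrimeSpectrum A) x = ringKrullDim A := by
  obtain ⟨p, hp⟩ := x
  haveI := hp
  rw [Groth.Agent.Lib.Helper4.DimFT2.localDim_spec_eq (k := k) p]
  exact Groth.Agent.Lib.Helper4.DimFT1.height_add_dim_quotient k A p

/-- In the tensor product of two finite type domains over a field, height plus dimension of
the quotient is the sum of the dimensions, at every prime. -/
theorem height_add_dim_tensor (k : Type u) [Field k] (A B : Type u) [CommRing A] [CommRing B]
    [IsDomain A] [IsDomain B] [Algebra k A] [Algebra k B] [Algebra.FiniteType k A]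
    [Algebra.FiniteType k B] (q : Ideal (A ⊗[k] B)) [hq : q.IsPrime] :
    (q.height : WithBot ℕ∞) + ringKrullDim ((A ⊗[k] B) ⧸ q) = ringKrullDim A + ringKrullDim B := by
  haveI : Algebra.FiniteType k (A ⊗[k] B) := Algebra.FiniteType.trans (S := A) inferInstance inferInstance
  rw [← Groth.Agent.Lib.Helper4.DimFT2.localDim_spec_eq (k := k) q]
  haveI := locallyOfFiniteType_SpecMap k A
  haveI := locallyOfFiniteType_SpecMap k B
  let h : ↥(pullback (Spec.map (CommRingCat.ofHom (algebraMap k A)))
      (Spec.map (CommRingCat.ofHom (algebraMap k B)))) ≃ₜ PrimeSpectrum (A ⊗[k] B) :=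
    Scheme.homeoOfIso (pullbackSpecIso k A B)
  have h1 := Groth.Agent.Lib.Helper4.Chev2.localDim_homeomorph h (h.symm ⟨q, hq⟩)
  rw [h.apply_symm_apply] at h1
  rw [← h1, Groth.Agent.Helper2.ProdLocalDim.localDim_pullback_eq_add k]
  have e1 := localDim_spec_domain k A
    (pullback.fst (Spec.map (CommRingCat.ofHom (algebraMap k A)))
      (Spec.map (CommRingCat.ofHom (algebraMap k B))) (h.symm ⟨q, hq⟩))
  have e2 := localDim_spec_domain k B
    (pullback.snd (Spec.map (CommRingCat.ofHom (algebraMap k A)))
      (Spec.map (CommRingCat.ofHom (algebraMap k B))) (h.symm ⟨q, hq⟩))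
  rw [← e1, ← e2]
  rfl

end Groth.Agent.Helper7.AffInt
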