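import Mathlib
import Groth.Agent.Lib.Helper7.AffInt.Alg

set_option linter.style.haveILetI false
set_option linter.unusedVariables false
set_option linter.unusedSectionVars false
set_option autoImplicit false
set_option backward.isDefEq.respectTransparency.types false
set_option synthInstance.maxHeartbeats 400000
set_option maxHeartbeats 800000

universe u

/-! helper7: The affine dimension theorem, algebraic form (helper7) -/
open TensorProduct

namespace Groth.Agent.Helper7.AffInt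

/-- The affine dimension theorem, algebraic form: in a `k`-algebra generated by `N` elements,
a minimal prime over the sum of two primes has dimension at least `r + s - N`. -/
theorem dim_add_dim_le {k : Type u} [Field k] {P : Type u} [CommRing P] [Algebra k P] {N : ℕ}
    (x : Fin N → P) (hx : Algebra.adjoin k (Set.range x) = ⊤)
    (p₁ p₂ q : Ideal P) [hp₁ : p₁.IsPrime] [hp₂ : p₂.IsPrime] [hqp : q.IsPrime]
    (hq : q ∈ (p₁ ⊔ p₂).minimalPrimes) :
    ringKrullDim (P ⧸ p₁) + ringKrullDim (P ⧸ p₂) ≤ ringKrullDim (P ⧸ q) + (N : WithBot ℕ∞) := by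
  classical
  haveI hft : Algebra.FiniteType k P :=
    ⟨⟨Finset.univ.image x, by rw [Finset.coe_image, Finset.coe_univ, Set.image_univ]; exact hx⟩⟩
  have h1q : p₁ ≤ q := le_sup_left.trans hq.1.2
  have h2q : p₂ ≤ q := le_sup_right.trans hq.1.2
  haveI : Algebra.FiniteType k (P ⧸ p₁) :=
    Algebra.FiniteType.of_surjective (Ideal.Quotient.mkₐ k p₁) (Ideal.Quotient.mkₐ_surjective k p₁)
  haveI : Algebra.FiniteType k (P ⧸ p₂) :=
    Algebra.FiniteType.of_surjective (Ideal.Quotient.mkₐ k p₂) (Ideal.Quotient.mkₐ_surjective k p₂)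
  haveI : Algebra.FiniteType k ((P ⧸ p₁) ⊗[k] (P ⧸ p₂)) :=
    Algebra.FiniteType.trans (S := P ⧸ p₁) inferInstance inferInstance
  haveI : IsNoetherianRing ((P ⧸ p₁) ⊗[k] (P ⧸ p₂)) :=
    Algebra.FiniteType.isNoetherianRing k _
  -- the two inclusions
  let i₁ : P →ₐ[k] (P ⧸ p₁) ⊗[k] (P ⧸ p₂) :=
    (Algebra.TensorProduct.includeLeft).comp (Ideal.Quotient.mkₐ k p₁)
  let i₂ : P →ₐ[k] (P ⧸ p₁) ⊗[k] (P ⧸ p₂) :=
    (Algebra.TensorProduct.includeRight).comp (Ideal.Quotient.mkₐ k p₂)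
  have hi₁ : ∀ y : P, i₁ y = (Ideal.Quotient.mk p₁ y) ⊗ₜ[k] (1 : P ⧸ p₂) := fun y => rfl
  have hi₂ : ∀ y : P, i₂ y = (1 : P ⧸ p₁) ⊗ₜ[k] (Ideal.Quotient.mk p₂ y) := fun y => rfl
  -- the multiplication map to `P ⧸ q`
  let μ : (P ⧸ p₁) ⊗[k] (P ⧸ p₂) →ₐ[k] P ⧸ q :=
    Algebra.TensorProduct.productMap (Ideal.Quotient.factorₐ k h1q) (Ideal.Quotient.factorₐ k h2q)
  have hμ₁ : ∀ y : P, μ (i₁ y) = Ideal.Quotient.mk q y := by
    intro y
    rw [hi₁]
    simp only [μ, Algebra.TensorProduct.productMap_apply_tmul, map_one, mul_one]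
    rfl
  have hμ₂ : ∀ y : P, μ (i₂ y) = Ideal.Quotient.mk q y := by
    intro y
    rw [hi₂]
    simp only [μ, Algebra.TensorProduct.productMap_apply_tmul, map_one, one_mul]
    rfl
  have hμsurj : Function.Surjective μ := by
    intro c
    obtain ⟨y, rfl⟩ := Ideal.Quotient.mk_surjective c
    exact ⟨i₁ y, hμ₁ y⟩
  -- the prime `q'`
  let q' : Ideal ((P ⧸ p₁) ⊗[k] (P ⧸ p₂)) := RingHom.ker μ.toRingHom
  haveI hq'prime : q'.IsPrime := RingHom.ker_isPrime μ.toRingHom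
  have hdimq' : ringKrullDim (((P ⧸ p₁) ⊗[k] (P ⧸ p₂)) ⧸ q') = ringKrullDim (P ⧸ q) :=
    ringKrullDim_eq_of_ringEquiv (RingHom.quotientKerEquivOfSurjective (f := μ.toRingHom) hμsurj)
  -- the diagonal elements
  let d : Fin N → (P ⧸ p₁) ⊗[k] (P ⧸ p₂) := fun i => i₁ (x i) - i₂ (x i)
  let s : Finset ((P ⧸ p₁) ⊗[k] (P ⧸ p₂)) := Finset.univ.image d
  have hJq' : Ideal.span (s : Set ((P ⧸ p₁) ⊗[k] (P ⧸ p₂))) ≤ q' := by
    rw [Ideal.span_le]
    intro t ht
    rw [Finset.mem_coe, Finset.mem_image] at ht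
    obtain ⟨i, -, rfl⟩ := ht
    change μ (i₁ (x i) - i₂ (x i)) = 0
    rw [map_sub, hμ₁, hμ₂, sub_self]
  have hmin : q' ∈ (Ideal.span (s : Set ((P ⧸ p₁) ⊗[k] (P ⧸ p₂)))).minimalPrimes := by
    refine ⟨⟨hq'prime, hJq'⟩, ?_⟩
    rintro r ⟨hrprime, hJr⟩ hrq'
    haveI := hrprime
    -- the two maps to the quotient by r agree
    let π : (P ⧸ p₁) ⊗[k] (P ⧸ p₂) →ₐ[k] ((P ⧸ p₁) ⊗[k] (P ⧸ p₂)) ⧸ r := Ideal.Quotient.mkₐ k r
    have hπ : ∀ t, π t = 0 ↔ t ∈ r := fun t => Ideal.Quotient.eq_zero_iff_mem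
    have hθ : π.comp i₁ = π.comp i₂ := by
      apply AlgHom.ext_of_adjoin_eq_top hx
      rintro _ ⟨i, rfl⟩
      have : π (d i) = 0 := by
        rw [hπ]
        exact hJr (Ideal.subset_span (Finset.mem_coe.mpr (Finset.mem_image_of_mem d (Finset.mem_univ i))))
      have h2 : π (i₁ (x i)) - π (i₂ (x i)) = 0 := by rw [← map_sub]; exact this
      exact sub_eq_zero.mp h2
    have hθ' : ∀ y : P, π (i₁ y) = π (i₂ y) := fun y => DFunLike.congr_fun hθ y
    -- the prime of P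
    let 𝔰 : Ideal P := RingHom.ker (π.comp i₁).toRingHom
    haveI h𝔰prime : 𝔰.IsPrime := RingHom.ker_isPrime (π.comp i₁).toRingHom
    have hmem𝔰 : ∀ y : P, y ∈ 𝔰 ↔ π (i₁ y) = 0 := fun y => Iff.rfl
    have h1𝔰 : p₁ ≤ 𝔰 := by
      intro y hy
      rw [hmem𝔰, hi₁, Ideal.Quotient.eq_zero_iff_mem.mpr hy, TensorProduct.zero_tmul, map_zero]
    have h2𝔰 : p₂ ≤ 𝔰 := by
      intro y hy
      rw [hmem𝔰, hθ', hi₂, Ideal.Quotient.eq_zero_iff_mem.mpr hy, TensorProduct.tmul_zero, map_zero]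
    have h𝔰q : 𝔰 ≤ q := by
      intro y hy
      rw [hmem𝔰, hπ] at hy
      have h3 : μ (i₁ y) = 0 := hrq' hy
      rw [hμ₁] at h3
      exact Ideal.Quotient.eq_zero_iff_mem.mp h3
    have hq𝔰 : q ≤ 𝔰 := hq.2 ⟨h𝔰prime, sup_le h1𝔰 h2𝔰⟩ h𝔰q
    -- every element is congruent to an element of `i₁ P`
    have key : ∀ t : (P ⧸ p₁) ⊗[k] (P ⧸ p₂), ∃ y : P, π t = π (i₁ y) ∧ μ t = Ideal.Quotient.mk q y := by
      intro t
      induction t using TensorProduct.induction_on with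
      | zero => exact ⟨0, by simp, by simp⟩
      | tmul a b =>
        obtain ⟨a', rfl⟩ := Ideal.Quotient.mk_surjective a
        obtain ⟨b', rfl⟩ := Ideal.Quotient.mk_surjective b
        refine ⟨a' * b', ?_, ?_⟩
        · have e : (Ideal.Quotient.mk p₁ a') ⊗ₜ[k] (Ideal.Quotient.mk p₂ b') = i₁ a' * i₂ b' := by
            rw [hi₁, hi₂, Algebra.TensorProduct.tmul_mul_tmul, mul_one, one_mul]
          rw [e, map_mul, ← hθ' b', ← map_mul, ← map_mul]
        · have e : (Ideal.Quotient.mk p₁ a') ⊗ₜ[k] (Ideal.Quotient.mk p₂ b') = i₁ a' * i₂ b' := by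
            rw [hi₁, hi₂, Algebra.TensorProduct.tmul_mul_tmul, mul_one, one_mul]
          rw [e, map_mul, hμ₁, hμ₂, ← map_mul]
      | add t₁ t₂ h₁ h₂ =>
        obtain ⟨y₁, h11, h12⟩ := h₁
        obtain ⟨y₂, h21, h22⟩ := h₂
        exact ⟨y₁ + y₂, by rw [map_add, h11, h21, ← map_add, ← map_add],
          by rw [map_add, h12, h22, ← map_add]⟩
    intro t ht
    obtain ⟨y, hy1, hy2⟩ := key t
    have h4 : μ t = 0 := ht
    rw [hy2] at h4
    have h5 : y ∈ 𝔰 := hq𝔰 (Ideal.Quotient.eq_zero_iff_mem.mp h4)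
    rw [hmem𝔰] at h5
    rw [h5] at hy1
    exact (hπ t).mp hy1
  have hht : q'.height ≤ (N : ℕ∞) := by
    have h1 := Ideal.height_le_card_of_mem_minimalPrimes_span_finset hmin
    have h2 : s.card ≤ N := by
      have := Finset.card_image_le (s := (Finset.univ : Finset (Fin N))) (f := d)
      simpa using this
    exact h1.trans (by exact_mod_cast h2)
  have hA1 := height_add_dim_tensor k (P ⧸ p₁) (P ⧸ p₂) q'
  rw [hdimq'] at hA1
  rw [← hA1, add_comm]
  gcongr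
  exact_mod_cast hht

end Groth.Agent.Helper7.AffInt
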