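import Mathlib
import Groth.Agent.Lib.Helper7.AffInt.Core
import Groth.Agent.Lib.Helper4.EffCartierDim1

set_option linter.style.haveILetI false
set_option linter.unusedVariables false
set_option linter.unusedSectionVars false
set_option autoImplicit false
set_option backward.isDefEq.respectTransparency.types false
set_option synthInstance.maxHeartbeats 400000
set_option maxHeartbeats 800000

universe u

/-! helper7: The affine dimension theorem for closed subsets of affine space (helper7) -/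
open CategoryTheory CategoryTheory.Limits AlgebraicGeometry

namespace Groth.Agent.Helper7.AffInt

section Top

variable {α : Type*} [TopologicalSpace α]

theorem isIrreducible_preimage_val {S W : Set α} (hW : IsIrreducible W) (hWS : W ⊆ S) :
    IsIrreducible (Subtype.val ⁻¹' W : Set ↥S) := by
  obtain ⟨w, hw⟩ := hW.nonempty
  refine ⟨⟨⟨w, hWS hw⟩, hw⟩, ?_⟩
  intro u v hu hv ⟨a, haW, hau⟩ ⟨b, hbW, hbv⟩
  obtain ⟨u', hu', rfl⟩ := isOpen_induced_iff.mp hu
  obtain ⟨v', hv', rfl⟩ := isOpen_induced_iff.mp hv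
  obtain ⟨c, hcW, hcu, hcv⟩ := hW.isPreirreducible u' v' hu' hv' ⟨a.1, haW, hau⟩ ⟨b.1, hbW, hbv⟩
  exact ⟨⟨c, hWS hcW⟩, hcW, hcu, hcv⟩

theorem image_val_component {S : Set α} (hS : IsClosed S) (C : Set ↥S)
    (hC : C ∈ irreducibleComponents ↥S) :
    IsClosed (Subtype.val '' C) ∧ IsIrreducible (Subtype.val '' C) ∧ Subtype.val '' C ⊆ S ∧
      (∀ W : Set α, IsIrreducible W → Subtype.val '' C ⊆ W → W ⊆ S → W ⊆ Subtype.val '' C) ∧
      topologicalKrullDim ↥C = topologicalKrullDim ↥(Subtype.val '' C) := by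
  have hCc : IsClosed C := isClosed_of_mem_irreducibleComponents C hC
  refine ⟨hS.isClosedEmbedding_subtypeVal.isClosedMap _ hCc,
    hC.1.image _ continuous_subtype_val.continuousOn, ?_, ?_, ?_⟩
  · rintro _ ⟨c, -, rfl⟩
    exact c.2
  · intro W hW hCW hWS
    have h1 : IsIrreducible (Subtype.val ⁻¹' W : Set ↥S) := isIrreducible_preimage_val hW hWS
    have h2 : C ⊆ (Subtype.val ⁻¹' W : Set ↥S) := fun c hc => hCW ⟨c, hc, rfl⟩
    have h3 := hC.2 h1 h2
    intro w hw
    exact ⟨⟨w, hWS hw⟩, h3 hw, rfl⟩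
  · exact IsHomeomorph.topologicalKrullDim_eq _
      (Topology.IsEmbedding.subtypeVal.homeomorphImage C).isHomeomorph

theorem exists_component_ge {S D : Set α} (hD : IsIrreducible D) (hDS : D ⊆ S) :
    ∃ C ∈ irreducibleComponents ↥S, D ⊆ Subtype.val '' C := by
  have h1 : IsIrreducible (Subtype.val ⁻¹' D : Set ↥S) := isIrreducible_preimage_val hD hDS
  obtain ⟨t, ht, hsub, hmax⟩ := exists_preirreducible _ h1.isPreirreducible
  have htne : t.Nonempty := h1.nonempty.mono hsub
  refine ⟨t, ⟨⟨htne, ht⟩, ?_⟩, ?_⟩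
  · intro u hu htu
    exact (hmax u hu.isPreirreducible htu).le
  · intro d hd
    exact ⟨⟨d, hDS hd⟩, hsub hd, rfl⟩

end Top

section Spec

variable {k : Type u} [Field k] {P : Type u} [CommRing P] [Algebra k P] {N : ℕ}
  {α : Type*} [TopologicalSpace α]

open PrimeSpectrum

theorem dim_eq_of_homeo (h : α ≃ₜ PrimeSpectrum P) (A : Set α) (hA : IsClosed A) :
    topologicalKrullDim ↥A = ringKrullDim (P ⧸ vanishingIdeal (h '' A)) := by
  rw [← Groth.Agent.Lib.Helper4.EffCartierDim1.dim_zeroLocus, zeroLocus_vanishingIdeal_eq_closure,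
    ((h.isClosed_image).mpr hA).closure_eq]
  exact Groth.Agent.Lib.Helper4.EffCartierDim1.dim_image_eq h.isEmbedding A

/-- The affine dimension theorem, for a space homeomorphic to the spectrum of an algebra
generated by `N` elements. -/
theorem spec_inter (x : Fin N → P) (hx : Algebra.adjoin k (Set.range x) = ⊤)
    (h : α ≃ₜ PrimeSpectrum P) (A B C : Set α)
    (hA : IsClosed A) (hAi : IsIrreducible A) (hB : IsClosed B) (hBi : IsIrreducible B)
    (hC : IsClosed C) (hCi : IsIrreducible C) (hCA : C ⊆ A) (hCB : C ⊆ B)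
    (hmax : ∀ W : Set α, IsIrreducible W → C ⊆ W → W ⊆ A ∩ B → W ⊆ C) :
    topologicalKrullDim ↥A + topologicalKrullDim ↥B ≤
      topologicalKrullDim ↥C + (N : WithBot ℕ∞) := by
  rw [dim_eq_of_homeo h A hA, dim_eq_of_homeo h B hB, dim_eq_of_homeo h C hC]
  haveI hp₁ : (vanishingIdeal (h '' A)).IsPrime :=
    isIrreducible_iff_vanishingIdeal_isPrime.mp (hAi.image h h.continuous.continuousOn)
  haveI hp₂ : (vanishingIdeal (h '' B)).IsPrime :=
    isIrreducible_iff_vanishingIdeal_isPrime.mp (hBi.image h h.continuous.continuousOn)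
  haveI hq : (vanishingIdeal (h '' C)).IsPrime :=
    isIrreducible_iff_vanishingIdeal_isPrime.mp (hCi.image h h.continuous.continuousOn)
  have hzl : ∀ D : Set α, IsClosed D → zeroLocus (vanishingIdeal (h '' D) : Set P) = h '' D := by
    intro D hD
    rw [zeroLocus_vanishingIdeal_eq_closure, ((h.isClosed_image).mpr hD).closure_eq]
  apply dim_add_dim_le x hx
  refine ⟨⟨hq, sup_le (vanishingIdeal_anti_mono (Set.image_mono hCA))
    (vanishingIdeal_anti_mono (Set.image_mono hCB))⟩, ?_⟩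
  rintro r ⟨hrp, hler⟩ hrq
  haveI := hrp
  -- the closed irreducible set of r
  let W : Set α := h ⁻¹' (zeroLocus (r : Set P))
  have hWi : IsIrreducible W := by
    have h1 : IsIrreducible (zeroLocus (r : Set P)) := by
      have := PrimeSpectrum.closure_singleton (⟨r, hrp⟩ : PrimeSpectrum P)
      rw [← this]
      exact isIrreducible_singleton.closure
    have h2 : W = h.symm '' (zeroLocus (r : Set P)) := by
      ext a
      constructor
      · intro ha
        exact ⟨h a, ha, h.symm_apply_apply a⟩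
      · rintro ⟨b, hb, rfl⟩
        change h (h.symm b) ∈ zeroLocus (r : Set P)
        rw [h.apply_symm_apply]
        exact hb
    rw [h2]
    exact h1.image _ h.symm.continuous.continuousOn
  have hCW : C ⊆ W := by
    intro c hc
    have h1 : h c ∈ zeroLocus (vanishingIdeal (h '' C) : Set P) := by
      rw [hzl C hC]; exact ⟨c, hc, rfl⟩
    exact zeroLocus_anti_mono_ideal hrq h1
  have hWAB : W ⊆ A ∩ B := by
    intro w hw
    have hw' : h w ∈ zeroLocus (r : Set P) := hw
    constructor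
    · have h1 : h w ∈ zeroLocus (vanishingIdeal (h '' A) : Set P) :=
        zeroLocus_anti_mono_ideal (le_sup_left.trans hler) hw'
      rw [hzl A hA] at h1
      obtain ⟨a, ha, hae⟩ := h1
      rw [← h.injective hae]
      exact ha
    · have h1 : h w ∈ zeroLocus (vanishingIdeal (h '' B) : Set P) :=
        zeroLocus_anti_mono_ideal (le_sup_right.trans hler) hw'
      rw [hzl B hB] at h1
      obtain ⟨a, ha, hae⟩ := h1
      rw [← h.injective hae]
      exact ha
  have hWC := hmax W hWi hCW hWAB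
  have h3 : zeroLocus (r : Set P) ⊆ h '' C := by
    intro b hb
    refine ⟨h.symm b, hWC ?_, h.apply_symm_apply b⟩
    change h (h.symm b) ∈ zeroLocus (r : Set P)
    rw [h.apply_symm_apply]
    exact hb
  have h4 := vanishingIdeal_anti_mono h3
  rw [vanishingIdeal_zeroLocus_eq_radical, hrp.isRadical.radical] at h4
  exact h4

end Spec

section Aff

/-- S7674 -/
theorem aff_inter (k : Type u) [Field k] (n r s : ℕ)
    (X Y : Set ↥(𝔸(ULift.{u} (Fin n); Spec (CommRingCat.of k)))) (hX : IsClosed X) (hY : IsClosed Y)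
    (hXr : ∀ Z ∈ irreducibleComponents X, topologicalKrullDim Z = r)
    (hYs : ∀ Z ∈ irreducibleComponents Y, topologicalKrullDim Z = s)
    (Z : Set ↥(X ∩ Y)) (hZ : Z ∈ irreducibleComponents ↥(X ∩ Y)) :
    ((r + s : ℕ) : WithBot ℕ∞) ≤ topologicalKrullDim Z + (n : WithBot ℕ∞) := by
  obtain ⟨hZc, hZi, hZsub, hZmax, hZdim⟩ := image_val_component (hX.inter hY) Z hZ
  obtain ⟨X₁, hX₁, hZX₁⟩ := exists_component_ge (S := X) hZi (hZsub.trans Set.inter_subset_left)
  obtain ⟨Y₁, hY₁, hZY₁⟩ := exists_component_ge (S := Y) hZi (hZsub.trans Set.inter_subset_right)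
  obtain ⟨hX₁c, hX₁i, hX₁sub, -, hX₁dim⟩ := image_val_component hX X₁ hX₁
  obtain ⟨hY₁c, hY₁i, hY₁sub, -, hY₁dim⟩ := image_val_component hY Y₁ hY₁
  let h : ↥(𝔸(ULift.{u} (Fin n); Spec (CommRingCat.of k))) ≃ₜ
      PrimeSpectrum (MvPolynomial (ULift.{u} (Fin n)) k) :=
    Scheme.homeoOfIso (AffineSpace.SpecIso (ULift.{u} (Fin n)) (CommRingCat.of k))
  have hx : Algebra.adjoin k (Set.range
      (fun i : Fin n => (MvPolynomial.X (ULift.up i) : MvPolynomial (ULift.{u} (Fin n)) k))) = ⊤ := by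
    have : Set.range (fun i : Fin n =>
        (MvPolynomial.X (ULift.up i) : MvPolynomial (ULift.{u} (Fin n)) k)) =
        Set.range (MvPolynomial.X : ULift.{u} (Fin n) → MvPolynomial (ULift.{u} (Fin n)) k) := by
      ext p
      constructor
      · rintro ⟨i, rfl⟩; exact ⟨ULift.up i, rfl⟩
      · rintro ⟨⟨i⟩, rfl⟩; exact ⟨i, rfl⟩
    rw [this]
    exact MvPolynomial.adjoin_range_X
  have key := spec_inter (k := k) _ hx h _ _ _ hX₁c hX₁i hY₁c hY₁i hZc hZi hZX₁ hZY₁
    (fun W hW hZW hWXY => hZmax W hW hZW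
      (fun w hw => ⟨hX₁sub (hWXY hw).1, hY₁sub (hWXY hw).2⟩))
  rw [← hX₁dim, ← hY₁dim, ← hZdim, hXr X₁ hX₁, hYs Y₁ hY₁] at key
  exact_mod_cast key

end Aff

end Groth.Agent.Helper7.AffInt
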