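import Mathlib
import Groth.Prelude.Def_Flat
import Groth.Prelude.Def_CurvBase
import Groth.Agent.Lib.Helper4.DimFT4
import Groth.Agent.Lib.Helper4.FibreStalkDim1
import Groth.Agent.Lib.Helper4.FibDim1
import Groth.Agent.Lib.Helper2.Sch.FieldBCDim

set_option linter.style.haveILetI false
set_option linter.unusedVariables false
set_option linter.unusedSectionVars false
set_option autoImplicit false
set_option backward.isDefEq.respectTransparency.types false
set_option synthInstance.maxHeartbeats 400000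
set_option maxHeartbeats 800000

universe u

/-! helper7: Dimension formula for base change to a field extension (helper7) -/
open CategoryTheory CategoryTheory.Limits AlgebraicGeometry
attribute [local instance] Curv2.stalkAlgebra Curv2.resAlgebra

namespace Groth.Agent.Helper7.AffInt

theorem exists_nat_dim' (R : Type u) [CommRing R] [IsLocalRing R] [IsNoetherianRing R] :
    ∃ n : ℕ, ringKrullDim R = (n : WithBot ℕ∞) := by
  have h1 : ringKrullDim R ≠ ⊥ := ringKrullDim_ne_bot
  have h2 : ringKrullDim R ≠ ⊤ := ringKrullDim_ne_top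
  obtain ⟨m, hm⟩ := WithBot.ne_bot_iff_exists.mp h1
  have h3 : m ≠ ⊤ := by
    rintro rfl
    exact h2 hm.symm
  obtain ⟨n, hn⟩ := ENat.ne_top_iff_exists.mp h3
  exact ⟨n, by rw [← hm, ← hn]; rfl⟩

/-- S7589 -/
theorem bc_dim (k : Type u) [Field k] (X : Scheme.{u}) [X.Over (Spec (CommRingCat.of k))]
    [LocallyOfFiniteType (X ↘ (Spec (CommRingCat.of k)))]
    (K : Type u) [Field K] [Algebra k K] (y : ↥(Curv2.bc k X K)) (a a' : ℕ)
    (ha : Algebra.trdeg k (X.residueField (Curv2.bcFst k X K y)) = a)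
    (ha' : letI : (Curv2.bc k X K).Over (Spec (CommRingCat.of K)) := ⟨Curv2.bcSnd k X K⟩
      Algebra.trdeg K ((Curv2.bc k X K).residueField y) = a') :
    ringKrullDim ((Curv2.bc k X K).presheaf.stalk y) + (a' : WithBot ℕ∞) =
        ringKrullDim (X.presheaf.stalk (Curv2.bcFst k X K y)) + (a : WithBot ℕ∞) ∧
      ringKrullDim (↥((Curv2.bc k X K).presheaf.stalk y) ⧸
        Ideal.map ((Curv2.bcFst k X K).stalkMap y).hom
          (IsLocalRing.maximalIdeal ↥(X.presheaf.stalk (Curv2.bcFst k X K y)))) +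
          (a' : WithBot ℕ∞) = (a : WithBot ℕ∞) := by
  letI inst : (Curv2.bc k X K).Over (Spec (CommRingCat.of K)) := ⟨Curv2.bcSnd k X K⟩
  haveI hlft : LocallyOfFiniteType ((Curv2.bc k X K) ↘ Spec (CommRingCat.of K)) := by
    change LocallyOfFiniteType (pullback.snd (X ↘ Spec (CommRingCat.of k))
      (Spec.map (CommRingCat.ofHom (algebraMap k K))))
    exact MorphismProperty.pullback_snd _ _ inferInstance
  haveI : IsLocallyNoetherian X :=
    LocallyOfFiniteType.isLocallyNoetherian (X ↘ Spec (CommRingCat.of k))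
  haveI : IsLocallyNoetherian (Curv2.bc k X K) :=
    LocallyOfFiniteType.isLocallyNoetherian ((Curv2.bc k X K) ↘ Spec (CommRingCat.of K))
  obtain ⟨b, hb⟩ := exists_nat_dim' (X.presheaf.stalk (Curv2.bcFst k X K y))
  obtain ⟨b', hb'⟩ := exists_nat_dim' ((Curv2.bc k X K).presheaf.stalk y)
  have h1 := Groth.Agent.Lib.Helper4.DimFT4.S1621_main k X (Curv2.bcFst k X K y) a b ha hb
  have h2 := Groth.Agent.Lib.Helper4.DimFT4.S1621_main K (Curv2.bc k X K) y a' b' ha' hb'
  have h3 : FlatMor.localDim ↥(Curv2.bc k X K) y = FlatMor.localDim X (Curv2.bcFst k X K y) :=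
    Groth.Agent.Helper2.FieldBCDim.localDim_bc (X ↘ Spec (CommRingCat.of k)) (K := K) y
  rw [h1, h2] at h3
  have h4 : a' + b' = a + b := by exact_mod_cast h3
  -- flatness
  haveI : Flat (Curv2.bcFst k X K) := by
    have : Flat (Spec.map (CommRingCat.ofHom (algebraMap k K))) := by
      rw [HasRingHomProperty.Spec_iff (P := @Flat)]
      simp only [RingHom.Flat]
      infer_instance
    exact MorphismProperty.pullback_fst _ _ inferInstance
  have hflat : ((Curv2.bcFst k X K).stalkMap y).hom.Flat := Flat.stalkMap (Curv2.bcFst k X K) y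
  have h5 := Groth.Agent.Lib.Helper4.FibreStalkDim1.dim_eq_of_local_flat
    ((Curv2.bcFst k X K).stalkMap y).hom hflat
  rw [hb, hb'] at h5
  refine ⟨?_, ?_⟩
  · rw [hb, hb']
    have : b' + a' = b + a := by omega
    exact_mod_cast this
  · apply Groth.Agent.Lib.Helper4.FibDim1.add_natCast_cancel _ _ b
    have e1 : (b' : WithBot ℕ∞) + (a' : WithBot ℕ∞) = (a : WithBot ℕ∞) + (b : WithBot ℕ∞) := by
      have : b' + a' = a + b := by omega
      exact_mod_cast this
    rw [← e1, h5]
    abel

end Groth.Agent.Helper7.AffInt
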