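import Mathlib
import Groth.Prelude.Def_CohB1
import Groth.Agent.Lib.Helper7.AffInt.Core
import Groth.Agent.Lib.Helper6.ProjDim.Main

set_option linter.style.haveILetI false
set_option linter.unusedVariables false
set_option linter.unusedSectionVars false
set_option autoImplicit false
set_option backward.isDefEq.respectTransparency.types false
set_option synthInstance.maxHeartbeats 400000
set_option maxHeartbeats 800000

universe u

/-! helper7: The projective dimension theorem via affine cones (helper7) -/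
open Groth.Agent.Lib.Helper6.ProjDim

namespace Groth.Agent.Helper7.AffInt

variable {k : Type u} [Field k] {n : ℕ}

/-- a nonempty closed subset of projective space of dimension `r` contains a point of coheight
at least `r` -/
theorem exists_pt_coheight_ge (X : Set (ProjectiveSpectrum (CohB1.polyGrading n k)))
    (hX : IsClosed X) (hne : X.Nonempty) (r : ℕ) (hr : topologicalKrullDim ↥X = r) :
    ∃ ξ ∈ X, (r : ℕ∞) ≤ Order.coheight ξ := by
  rw [topologicalKrullDim_eq_krullDim_pts _ _ hX] at hr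
  haveI : Nonempty (Pts (CohB1.polyGrading n k) X) := ⟨⟨hne.some, hne.some_mem⟩⟩
  rw [Order.krullDim_eq_iSup_coheight_of_nonempty] at hr
  have hr' : (⨆ a : Pts (CohB1.polyGrading n k) X, Order.coheight a) = (r : ℕ∞) := by
    exact_mod_cast hr
  have hlt : (⨆ a : Pts (CohB1.polyGrading n k) X, Order.coheight a) < ⊤ := by
    rw [hr']; exact ENat.natCast_lt_top r
  obtain ⟨a, ha⟩ := ENat.exists_eq_iSup_of_lt_top hlt
  refine ⟨a.1, a.2, ?_⟩
  rw [← hr', ← ha]
  exact Order.coheight_le_coheight_apply_of_strictMono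
    (fun b : Pts (CohB1.polyGrading n k) X => b.1) (fun _ _ h => h) a

/-- closed sets are upper sets -/
theorem mem_of_le_of_isClosed' {Y : Set (ProjectiveSpectrum (CohB1.polyGrading n k))}
    (hY : IsClosed Y) {y z : ProjectiveSpectrum (CohB1.polyGrading n k)} (hy : y ∈ Y)
    (hyz : y ≤ z) : z ∈ Y := by
  have h1 : closure {y} ⊆ Y := closure_minimal (Set.singleton_subset_iff.2 hy) hY
  exact h1 ((mem_closure_singleton_iff _ y z).2 hyz)

/-- The projective dimension theorem. -/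
theorem proj_inter (r s : ℕ) (X Y : Set (ProjectiveSpectrum (CohB1.polyGrading n k)))
    (hX : IsClosed X) (hY : IsClosed Y) (hXne : X.Nonempty) (hYne : Y.Nonempty)
    (hXr : topologicalKrullDim ↥X = r) (hYs : topologicalKrullDim ↥Y = s) (hrs : n ≤ r + s) :
    (X ∩ Y).Nonempty ∧
      ((r + s : ℕ) : WithBot ℕ∞) ≤ topologicalKrullDim ↥(X ∩ Y) + (n : WithBot ℕ∞) := by
  obtain ⟨ξ, hξX, hξr⟩ := exists_pt_coheight_ge X hX hXne r hXr
  obtain ⟨η, hηY, hηs⟩ := exists_pt_coheight_ge Y hY hYne s hYs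
  -- dimensions of the cones
  obtain ⟨a, ha⟩ := dq_nat (k := k) (idl ξ)
  obtain ⟨b, hb⟩ := dq_nat (k := k) (idl η)
  have hξ1 := coheight_add_one ξ
  have hη1 := coheight_add_one η
  rw [ha] at hξ1
  rw [hb] at hη1
  have har : r + 1 ≤ a := by
    have h0 : ((r : ℕ∞) : WithBot ℕ∞) ≤ ((Order.coheight ξ : ℕ∞) : WithBot ℕ∞) := by
      exact_mod_cast hξr
    have h1 : ((r : ℕ∞) : WithBot ℕ∞) + 1 ≤ ((Order.coheight ξ : ℕ∞) : WithBot ℕ∞) + 1 :=
      add_le_add_left h0 1
    rw [hξ1] at h1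
    exact_mod_cast h1
  have hbs : s + 1 ≤ b := by
    have h0 : ((s : ℕ∞) : WithBot ℕ∞) ≤ ((Order.coheight η : ℕ∞) : WithBot ℕ∞) := by
      exact_mod_cast hηs
    have h1 : ((s : ℕ∞) : WithBot ℕ∞) + 1 ≤ ((Order.coheight η : ℕ∞) : WithBot ℕ∞) + 1 :=
      add_le_add_left h0 1
    rw [hη1] at h1
    exact_mod_cast h1
  -- a minimal prime over the sum
  have hle : idl ξ ⊔ idl η ≤ irr k n := sup_le (idl_le_irr ξ) (idl_le_irr η)
  obtain ⟨q, hq, hqi⟩ := Ideal.exists_minimalPrimes_le hle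
  haveI hqp : q.IsPrime := hq.1.1
  have hhom : (idl ξ ⊔ idl η).IsHomogeneous (CohB1.polyGrading n k) :=
    ξ.asHomogeneousIdeal.isHomogeneous.sup η.asHomogeneousIdeal.isHomogeneous
  have hqh := isHomogeneous_of_mem_minimalPrimes _ hhom hq
  haveI : (idl ξ).IsPrime := ξ.isPrime
  haveI : (idl η).IsPrime := η.isPrime
  have hcore := dim_add_dim_le (k := k) (P := MvPolynomial (Fin (n + 1)) k) (N := n + 1)
    (fun i => MvPolynomial.X i) MvPolynomial.adjoin_range_X (idl ξ) (idl η) q hq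
  obtain ⟨c, hc⟩ := dq_nat (k := k) q
  change dq (idl ξ) + dq (idl η) ≤ dq q + _ at hcore
  rw [ha, hb, hc] at hcore
  have hcore' : a + b ≤ c + (n + 1) := by exact_mod_cast hcore
  have hne : q ≠ irr k n := by
    intro h
    rw [h, dq_irr] at hc
    have : (0 : ℕ) = c := by exact_mod_cast hc
    omega
  let ζ := mkPt q hqh hqp hne
  have hξζ : ξ ≤ ζ := by
    change idl ξ ≤ q
    exact le_sup_left.trans hq.1.2
  have hηζ : η ≤ ζ := by
    change idl η ≤ q
    exact le_sup_right.trans hq.1.2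
  have hζX : ζ ∈ X := mem_of_le_of_isClosed' hX hξX hξζ
  have hζY : ζ ∈ Y := mem_of_le_of_isClosed' hY hηY hηζ
  refine ⟨⟨ζ, hζX, hζY⟩, ?_⟩
  have hζ1 := coheight_add_one ζ
  have hidl : idl ζ = q := rfl
  rw [hidl, hc] at hζ1
  have hsub : Set.Ici ζ ⊆ X ∩ Y := by
    intro y hy
    exact ⟨mem_of_le_of_isClosed' hX hζX hy, mem_of_le_of_isClosed' hY hζY hy⟩
  have hmono : topologicalKrullDim ↥(Set.Ici ζ) ≤ topologicalKrullDim ↥(X ∩ Y) :=
    (Topology.IsEmbedding.inclusion hsub).isInducing.topologicalKrullDim_le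
  rw [dim_Ici] at hmono
  -- arithmetic
  obtain ⟨e, he⟩ : ∃ e : ℕ, Order.coheight ζ = (e : ℕ∞) := by
    have : Order.coheight ζ ≠ ⊤ := by
      intro h
      rw [h] at hζ1
      have h2 : ((⊤ : ℕ∞) : WithBot ℕ∞) + 1 = ((⊤ : ℕ∞) : WithBot ℕ∞) := by
        rw [← WithBot.coe_one, ← WithBot.coe_add, top_add]
      rw [h2] at hζ1
      have : (⊤ : ℕ∞) = (c : ℕ∞) := by exact_mod_cast hζ1
      exact ENat.top_ne_natCast c this
    exact ⟨(Order.coheight ζ).toNat, (ENat.natCast_toNat this).symm⟩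
  rw [he] at hζ1 hmono
  have hec : e + 1 = c := by exact_mod_cast hζ1
  have hfin : ((r + s : ℕ) : WithBot ℕ∞) ≤ ((e : ℕ∞) : WithBot ℕ∞) + (n : WithBot ℕ∞) := by
    have : r + s ≤ e + n := by omega
    exact_mod_cast this
  exact hfin.trans (by gcongr)

end Groth.Agent.Helper7.AffInt
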